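import Mathlib
import Cfsg.Agent.Lib.Helper65.BG.S1391Defs
import Cfsg.Agent.Lib.Helper65.BG.S1391Norm
import Cfsg.Agent.Lib.Helper65.BG.S1391Core
import Cfsg.Agent.Lib.Helper65.BG.S1537Lite
import Cfsg.Agent.Lib.Helper77.BG.S1391Fus
import Cfsg.Agent.Lib.Helper77.BG.S1391Cent
import Cfsg.Agent.Lib.Helper11.BG.S1391Cop
import Cfsg.Agent.Lib.Helper49.BG.S1391Frob
import Cfsg.Agent.Lib.Helper85.BG.S1391TR3

/-!
# S1391, S1537, S1538 with all packages plugged in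

* `s1537_closed`, `s1538_closed`: no S1380, no S1391 needed.
* `s1391_closed`: needs S1380 (both directions) among its hypotheses.
-/

set_option autoImplicit false

namespace Cfsg.Agent.Lib.Helper65.BG91

open Cfsg

universe u

theorem s1537_closed {G : Type u} [Group G] [Finite G] (hG : Cfsg.IsMinSimpleOddOrder G)
    (h1350 : type_of% (@Cfsg.CfsgFrozen.S1350 G _ _ hG))
    (h1351 : type_of% (@Cfsg.CfsgFrozen.S1351 G _ _ hG))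
    (h1352 : type_of% (@Cfsg.CfsgFrozen.S1352 G _ _ hG))
    (h1354 : type_of% (@Cfsg.CfsgFrozen.S1354 G _ _ hG))
    (h1355 : type_of% (@Cfsg.CfsgFrozen.S1355 G _ _ hG))
    (h1361 : type_of% (@Cfsg.CfsgFrozen.S1361 G _ _ hG))
    (h1362 : type_of% (@Cfsg.CfsgFrozen.S1362 G _ _ hG))
    (h1364 : type_of% (@Cfsg.CfsgFrozen.S1364 G _ _ hG))
    (h1365 : type_of% (@Cfsg.CfsgFrozen.S1365 G _ _ hG))
    (h1370 : type_of% (@Cfsg.CfsgFrozen.S1370 G _ _ hG))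
    (h1371 : type_of% (@Cfsg.CfsgFrozen.S1371 G _ _ hG))
    (h1374 : type_of% (@Cfsg.CfsgFrozen.S1374 G _ _ hG))
    (h1375 : type_of% (@Cfsg.CfsgFrozen.S1375 G _ _ hG))
    (h1378 : type_of% (@Cfsg.CfsgFrozen.S1378 G _ _ hG))
    (h1382 : type_of% (@Cfsg.CfsgFrozen.S1382 G _ _ hG))
    (h1403 : type_of% (@Cfsg.CfsgFrozen.S1403 G _ _ hG))
    (h1436 : type_of% (@Cfsg.CfsgFrozen.S1436 G _ _ hG))
    (h1437 : type_of% (@Cfsg.CfsgFrozen.S1437 G _ _ hG)) :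
    type_of% (@Cfsg.CfsgFrozen.S1537 G _ _ hG) :=
  s1537_core' hG h1350 h1351 h1352 h1354 h1355 h1361 h1362 h1364 h1365 h1370 h1371 h1374 h1375
    h1378 h1382 h1403 h1436 h1437 (Cfsg.Agent.Lib.Helper77.BG.lemFus lemNorm)
    Cfsg.Agent.Lib.Helper77.BG.lemCent Cfsg.Agent.Lib.Helper11.BG91.lemCop

theorem s1538_closed {G : Type u} [Group G] [Finite G] (hG : Cfsg.IsMinSimpleOddOrder G)
    (h1350 : type_of% (@Cfsg.CfsgFrozen.S1350 G _ _ hG))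
    (h1351 : type_of% (@Cfsg.CfsgFrozen.S1351 G _ _ hG))
    (h1352 : type_of% (@Cfsg.CfsgFrozen.S1352 G _ _ hG))
    (h1354 : type_of% (@Cfsg.CfsgFrozen.S1354 G _ _ hG))
    (h1355 : type_of% (@Cfsg.CfsgFrozen.S1355 G _ _ hG))
    (h1361 : type_of% (@Cfsg.CfsgFrozen.S1361 G _ _ hG))
    (h1362 : type_of% (@Cfsg.CfsgFrozen.S1362 G _ _ hG))
    (h1364 : type_of% (@Cfsg.CfsgFrozen.S1364 G _ _ hG))
    (h1365 : type_of% (@Cfsg.CfsgFrozen.S1365 G _ _ hG))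
    (h1370 : type_of% (@Cfsg.CfsgFrozen.S1370 G _ _ hG))
    (h1371 : type_of% (@Cfsg.CfsgFrozen.S1371 G _ _ hG))
    (h1374 : type_of% (@Cfsg.CfsgFrozen.S1374 G _ _ hG))
    (h1375 : type_of% (@Cfsg.CfsgFrozen.S1375 G _ _ hG))
    (h1378 : type_of% (@Cfsg.CfsgFrozen.S1378 G _ _ hG))
    (h1381 : type_of% (@Cfsg.CfsgFrozen.S1381 G _ _ hG))
    (h1382 : type_of% (@Cfsg.CfsgFrozen.S1382 G _ _ hG))
    (h1403 : type_of% (@Cfsg.CfsgFrozen.S1403 G _ _ hG))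
    (h1436 : type_of% (@Cfsg.CfsgFrozen.S1436 G _ _ hG))
    (h1437 : type_of% (@Cfsg.CfsgFrozen.S1437 G _ _ hG)) :
    type_of% (@Cfsg.CfsgFrozen.S1538 G _ _ hG) :=
  s1538_core' hG h1350 h1351 h1352 h1354 h1355 h1361 h1362 h1364 h1365 h1370 h1371 h1374 h1375
    h1378 h1381 h1382 h1403 h1436 h1437 (Cfsg.Agent.Lib.Helper77.BG.lemFus lemNorm)
    Cfsg.Agent.Lib.Helper77.BG.lemCent Cfsg.Agent.Lib.Helper11.BG91.lemCop

theorem s1391_closed {G : Type u} [Group G] [Finite G] (hG : Cfsg.IsMinSimpleOddOrder G)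
    (h1350 : type_of% (@Cfsg.CfsgFrozen.S1350 G _ _ hG))
    (h1351 : type_of% (@Cfsg.CfsgFrozen.S1351 G _ _ hG))
    (h1352 : type_of% (@Cfsg.CfsgFrozen.S1352 G _ _ hG))
    (h1354 : type_of% (@Cfsg.CfsgFrozen.S1354 G _ _ hG))
    (h1355 : type_of% (@Cfsg.CfsgFrozen.S1355 G _ _ hG))
    (h1361 : type_of% (@Cfsg.CfsgFrozen.S1361 G _ _ hG))
    (h1362 : type_of% (@Cfsg.CfsgFrozen.S1362 G _ _ hG))
    (h1365 : type_of% (@Cfsg.CfsgFrozen.S1365 G _ _ hG))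
    (h1370 : type_of% (@Cfsg.CfsgFrozen.S1370 G _ _ hG))
    (h1371 : type_of% (@Cfsg.CfsgFrozen.S1371 G _ _ hG))
    (h1374 : type_of% (@Cfsg.CfsgFrozen.S1374 G _ _ hG))
    (h1375 : type_of% (@Cfsg.CfsgFrozen.S1375 G _ _ hG))
    (h1376 : type_of% (@Cfsg.CfsgFrozen.S1376 G _ _ hG))
    (h1378 : type_of% (@Cfsg.CfsgFrozen.S1378 G _ _ hG))
    (h1380 : type_of% (@Cfsg.CfsgFrozen.S1380 G _ _ hG))
    (h1381 : type_of% (@Cfsg.CfsgFrozen.S1381 G _ _ hG))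
    (h1382 : type_of% (@Cfsg.CfsgFrozen.S1382 G _ _ hG))
    (h1383 : type_of% (@Cfsg.CfsgFrozen.S1383 G _ _ hG))
    (h1403 : type_of% (@Cfsg.CfsgFrozen.S1403 G _ _ hG))
    (h1436 : type_of% (@Cfsg.CfsgFrozen.S1436 G _ _ hG))
    (h1437 : type_of% (@Cfsg.CfsgFrozen.S1437 G _ _ hG)) :
    type_of% (@Cfsg.CfsgFrozen.S1391 G _ _ hG) :=
  s1391_core hG h1350 h1351 h1352 h1354 h1355 h1361 h1362 h1365 h1370 h1371 h1374 h1375 h1376
    h1378 h1380 h1381 h1382 h1383 h1403 h1436 h1437 Cfsg.Agent.Lib.Helper49.BG.lemFrob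
    Cfsg.Agent.Lib.Helper85.BG.lemTR1 Cfsg.Agent.Lib.Helper85.BG.lemTR2
    Cfsg.Agent.Lib.Helper85.BG.lemTR3 (Cfsg.Agent.Lib.Helper77.BG.lemFus lemNorm)
    Cfsg.Agent.Lib.Helper77.BG.lemCent Cfsg.Agent.Lib.Helper11.BG91.lemCop

end Cfsg.Agent.Lib.Helper65.BG91
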